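import Cfsg.Agent.Lib.Fi22Loc.Rec.Whole
import Cfsg.Agent.Lib.Fi22Loc.Member.Charts

/-!
A group with the setting is Fi22 or its automorphism group.
-/

set_option autoImplicit false
set_option linter.unusedSectionVars false
set_option synthInstance.maxSize 1024

namespace CfsgLib.Fi22Loc

open CfsgLib.U6Three (V2 SL23 det2 app2)
open CfsgThreeTrans.M22 (tu)

universe u

namespace Setting

variable {G : Type u} [Group G] [Finite G] (D : Setting G)

include D in
theorem main : Cfsg.Spor.IsoFi22 G ∨ Nonempty (G ≃* MulAut Cfsg.Spor.Fi22) := by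
  classical
  obtain ⟨F, iF, iF', iFd, hF, L⟩ := D.exists_local
  have ttM : D.tt ∈ D.Cls := ⟨1, by group⟩
  obtain ⟨A⟩ := L.chart D.tt ttM
  rcases D.index_or with htop | h2
  · refine Or.inl ?_
    have e : ∀ g : D.TC, (g : G) ∈ Rec.LC D.tt := fun g => ⟨g, htop.symm ▸ Subgroup.mem_top g, rfl⟩
    let τ : ↥D.TC →* ↥(Rec.LC D.tt) := D.TC.subtype.codRestrict _ e
    have τs : Function.Surjective τ := fun s => by
      obtain ⟨c, -, hc⟩ := s.2
      exact ⟨c, Subtype.ext hc⟩
    have τi : Function.Injective τ := fun a b h => Subtype.ext (congrArg (fun s : ↥(Rec.LC D.tt) => (s : G)) h)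
    let ψ : ↥D.TC →* Cfsg.PSU 6 F 2 := A.ψ.comp τ
    have sur : Function.Surjective ψ := A.sur.comp τs
    have ker : ∀ g, ψ g = 1 ↔ (g : G) = 1 ∨ (g : G) = D.tt := fun g => A.ker (τ g)
    haveI : IsSimpleGroup (Cfsg.PSU 6 F 2) :=
      Cfsg.Agent.S0283.result (F := F) (q := 2) hF 6 (by norm_num) (by norm_num)
    have hq : Cfsg.IsQuasisimple ↥D.TC := Rec.quasisimple_of_cover ψ sur htop (CfsgFi22Rec.psu_perfect (hF := hF))
      fun x hx => Subgroup.mem_center_iff.mpr fun y => by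
        refine Subtype.ext ?_
        rcases (ker x).mp (MonoidHom.mem_ker.mp hx) with r | r
        · rw [show x = 1 from Subtype.ext r]; simp
        · rw [Subgroup.coe_mul, Subgroup.coe_mul, r]
          exact (D.mem_TC.mp y.2).eq
    have hk : D.NT = ψ.ker := Subgroup.ext fun x => D.mem_NT.trans ((ker x).symm.trans MonoidHom.mem_ker.symm)
    haveI : ((Subgroup.zpowers D.tt).subgroupOf (Subgroup.centralizer ({D.tt} : Set G))).Normal :=
      (inferInstance : D.NT.Normal)
    obtain ⟨v0⟩ : Nonempty (CfsgThreeTrans.M22.Iso F) := ⟨⟨![1, 1, 0, 0, 0, 0],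
      fun k => by simpa using congrFun k 0,
      by simp [Cfsg.hermForm, Fin.sum_univ_six, CfsgThreeTrans.M22.add_self hF]⟩⟩
    obtain ⟨g, hg⟩ : D.Mem (A.pnt v0) := A.pnt_mem v0
    refine Cfsg.Agent.S1713.result D.tt (orderOf_eq_prime (by rw [pow_two]; exact D.tt_sq) D.tt_ne) hq F
      (by rw [hF]; norm_num)
      ((QuotientGroup.quotientMulEquivOfEq hk).trans (QuotientGroup.quotientKerEquivOfSurjective ψ sur)) ⟨g, ?_, ?_⟩
    · rw [← hg]; exact D.mem_TC.mpr (A.pnt_comm v0).symm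
    · rw [← hg]; exact A.pnt_ne v0
  · refine Or.inr ?_
    obtain ⟨E⟩ := Rec.Emb.nonempty L ttM
    refine E.whole (fun y hy => hy) h2 fun g hg hs => ?_
    set gT : D.TC := ⟨g, D.mem_TC.mpr hg.symm⟩
    have : D.mkT gT ∈ Subgroup.centralizer (D.UU : Set (D.TC ⧸ D.NT)) := Subgroup.mem_centralizer_iff.mpr fun x hx => by
      obtain ⟨s, rfl⟩ := D.mk_surj x
      have hsL : (s : G) ∈ Rec.LC D.tt := D.lc_mem.mpr ⟨s.2, hx⟩
      rw [← map_mul, ← map_mul]
      exact congrArg D.mkT (Subtype.ext (hs _ hsL).eq.symm)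
    rw [D.UU_cent, Subgroup.mem_bot] at this
    exact D.mem_NT.mp ((QuotientGroup.eq_one_iff gT).mp this)

end Setting

end CfsgLib.Fi22Loc
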